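import Groth.Agent.AlgGrp79.ProdSections
import Groth.Agent.RedPts82.HomFinFlat
import Mathlib.AlgebraicGeometry.Morphisms.Finite

/-! Morphisms from a quasi-compact scheme with finitely many functions to an affine scheme. -/

set_option autoImplicit false
set_option backward.isDefEq.respectTransparency.types false
universe u

open CategoryTheory CategoryTheory.Limits MonoidalCategory CartesianMonoidalCategory MonObj AlgebraicGeometry
open scoped TensorProduct

noncomputable section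

namespace Groth.Agent.PB4

open AlgGrp79 ProdSections

attribute [local instance] GLnDiag.gAlg

variable {k : Type u} [Field k] {X X' Z : Over (Spec (CommRingCat.of k))} (c : X ⟶ X')

/-- A morphism inducing a bijection on functions does so after product with an affine scheme. -/
theorem bijective_pb_whisker [QuasiCompact X.hom] [QuasiCompact X'.hom] (hc : Function.Bijective (pb c))
    (S : Over (Spec (CommRingCat.of k))) [IsAffine S.left] : Function.Bijective (pb (S ◁ c)) := by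
  have : QuasiCompact S.hom := inferInstance
  have : QuasiSeparated S.hom := inferInstance
  have h := ev_bijective S X
  have h' := ev_bijective S X'
  have e : (pb (S ◁ c)).comp (ev (fst S X') (snd S X')) =
      (ev (fst S X) (snd S X)).comp (Algebra.TensorProduct.map (AlgHom.id k Γ(S.left, ⊤)) (pb c)) := by
    rw [pb_ev, whiskerLeft_fst, whiskerLeft_snd, ← pb_id, ev_map, Category.comp_id]
  have hm : Function.Bijective (Algebra.TensorProduct.map (AlgHom.id k Γ(S.left, ⊤)) (pb c)) :=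
    (Algebra.TensorProduct.congr (AlgEquiv.refl) (AlgEquiv.ofBijective (pb c) hc)).bijective
  refine (Function.Bijective.of_comp_iff (pb (S ◁ c)) h').1 ?_
  rw [show ⇑(pb (S ◁ c)) ∘ ⇑(ev (fst S X') (snd S X')) = ⇑(ev (fst S X) (snd S X)) ∘ ⇑(Algebra.TensorProduct.map
    (AlgHom.id k Γ(S.left, ⊤)) (pb c)) from funext fun z => congr($e z)]
  exact h.comp hm

/-- Maps into an affine scheme extend uniquely. -/
theorem existsUnique_extend [IsAffine Z.left] {P P' : Over (Spec (CommRingCat.of k))} (j : P ⟶ P')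
    (hj : Function.Bijective (pb j)) (f : P ⟶ Z) : ∃! f' : P' ⟶ Z, j ≫ f' = f := by
  let e := AlgEquiv.ofBijective (pb j) hj
  let ψ : CommRingCat.of Γ(Z.left, ⊤) ⟶ CommRingCat.of Γ(P'.left, ⊤) :=
    CommRingCat.ofHom (e.symm.toAlgHom.comp (pb f)).toRingHom
  let f₀ : P'.left ⟶ Z.left := P'.left.toSpecΓ ≫ Spec.map ψ ≫ Z.left.isoSpec.inv
  have h0 : f₀.appTop = ψ := by
    rw [Scheme.Hom.comp_appTop, Scheme.Hom.comp_appTop, Scheme.toSpecΓ_appTop, Category.assoc,
      Scheme.ΓSpecIso_naturality]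
    have hi : Z.left.isoSpec.inv.appTop ≫ (Scheme.ΓSpecIso Γ(Z.left, ⊤)).hom = 𝟙 _ := by
      rw [← Scheme.toSpecΓ_appTop, ← Scheme.Hom.comp_appTop, ← Scheme.isoSpec_hom, Iso.hom_inv_id,
        Scheme.Hom.id_appTop]
    exact (Category.assoc _ _ _).symm.trans ((congrArg (· ≫ ψ) hi).trans (Category.id_comp ψ))
  have hw : f₀ ≫ Z.hom = P'.hom := by
    refine ext_of_isAffine ?_
    rw [Scheme.Hom.comp_appTop, h0, ← cancel_epi (Scheme.ΓSpecIso (CommRingCat.of k)).inv]
    ext r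
    exact AlgHom.commutes (e.symm.toAlgHom.comp (pb f)) r
  refine ⟨Over.homMk f₀ hw, Over.OverMorphism.ext (ext_of_isAffine ?_), fun g hg =>
    Over.OverMorphism.ext (ext_of_isAffine ?_)⟩
  · refine CommRingCat.hom_ext (RingHom.ext fun x => ?_)
    change (j.left ≫ f₀).appTop x = f.left.appTop x
    rw [Scheme.Hom.comp_appTop, h0]
    exact e.apply_symm_apply (pb f x)
  · change g.left.appTop = f₀.appTop
    rw [h0]
    refine CommRingCat.hom_ext (RingHom.ext fun x => hj.1 ?_)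
    show pb j (pb g x) = pb j (e.symm (pb f x))
    rw [← pb_comp_apply, hg]
    exact (e.apply_symm_apply (pb f x)).symm

theorem existsUnique_affine [QuasiCompact X.hom] [QuasiCompact X'.hom] [IsAffine Z.left]
    (hc : Function.Bijective (pb c)) {M : Over (Spec (CommRingCat.of k))} (ev : X' ⊗ M ⟶ Z)
    (hM : ∀ (T : Over (Spec (CommRingCat.of k))) (φ : X' ⊗ T ⟶ Z), ∃! v : T ⟶ M, (X' ◁ v) ≫ ev = φ)
    (S : Over (Spec (CommRingCat.of k))) [IsAffine S.left] (f : X ⊗ S ⟶ Z) :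
    ∃! g : S ⟶ M, (X ◁ g) ≫ (c ▷ M) ≫ ev = f := by
  have hb : Function.Bijective (pb (c ▷ S)) := by
    have e : c ▷ S = (β_ X S).hom ≫ (S ◁ c) ≫ (β_ S X').hom := by ext1 <;> simp
    have hiso : ∀ {A B : Over (Spec (CommRingCat.of k))} (i : A ≅ B), Function.Bijective (pb i.hom) := fun i =>
      Function.bijective_iff_has_inverse.2 ⟨pb i.inv,
        fun x => by rw [← pb_comp_apply, i.inv_hom_id, pb_id]; rfl,
        fun x => by rw [← pb_comp_apply, i.hom_inv_id, pb_id]; rfl⟩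
    rw [e, pb_comp, pb_comp]
    exact ((hiso _).comp (bijective_pb_whisker c hc S)).comp (hiso _)
  obtain ⟨f', hf', hu⟩ := existsUnique_extend (c ▷ S) hb f
  obtain ⟨g, hg, hgu⟩ := hM S f'
  have key : ∀ g : S ⟶ M, (X ◁ g) ≫ (c ▷ M) ≫ ev = (c ▷ S) ≫ (X' ◁ g) ≫ ev := fun g => by
    rw [← Category.assoc, whisker_exchange, Category.assoc]
  refine ⟨g, show (X ◁ g) ≫ (c ▷ M) ≫ ev = f by rw [key, hg, hf'], fun g' hg' => hgu g' (hu _ ?_)⟩
  show (c ▷ S) ≫ (X' ◁ g') ≫ ev = f
  rw [← key, hg']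

theorem existsUnique_all [QuasiCompact X.hom] [QuasiCompact X'.hom] [IsAffine Z.left]
    (hc : Function.Bijective (pb c)) {M : Over (Spec (CommRingCat.of k))} (ev : X' ⊗ M ⟶ Z)
    (hM : ∀ (T : Over (Spec (CommRingCat.of k))) (φ : X' ⊗ T ⟶ Z), ∃! v : T ⟶ M, (X' ◁ v) ≫ ev = φ)
    (S : Over (Spec (CommRingCat.of k))) (f : X ⊗ S ⟶ Z) :
    ∃! g : S ⟶ M, (X ◁ g) ≫ (c ▷ M) ≫ ev = f := by
  have huniq : ∀ (S : Over (Spec (CommRingCat.of k))) (g g' : S ⟶ M),
      (X ◁ g) ≫ (c ▷ M) ≫ ev = (X ◁ g') ≫ (c ▷ M) ≫ ev → g = g' := by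
    intro S g g' h
    refine Over.OverMorphism.ext (S.left.affineCover.hom_ext _ _ fun m => ?_)
    let i : Over.mk (S.left.affineCover.f m ≫ S.hom) ⟶ S := Over.homMk (S.left.affineCover.f m) rfl
    have : IsAffine (Over.mk (S.left.affineCover.f m ≫ S.hom)).left :=
      inferInstanceAs (IsAffine (S.left.affineCover.X m))
    have e : i ≫ g = i ≫ g' := (existsUnique_affine c hc ev hM _ ((X ◁ i) ≫ (X ◁ g') ≫ (c ▷ M) ≫ ev)).unique
      (by rw [whiskerLeft_comp_assoc, h]) (by rw [whiskerLeft_comp_assoc])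
    exact congrArg Over.Hom.left e
  let 𝒰 := S.left.affineCover
  let U : 𝒰.I₀ → Over (Spec (CommRingCat.of k)) := fun m => Over.mk (𝒰.f m ≫ S.hom)
  let i : ∀ m, U m ⟶ S := fun m => Over.homMk (𝒰.f m) rfl
  have : ∀ m, IsAffine (U m).left := fun m => inferInstanceAs (IsAffine (S.left.affineCover.X m))
  choose g hg hgu using fun m => existsUnique_affine c hc ev hM (U m) ((X ◁ i m) ≫ f)
  have hcompat : ∀ m m', pullback.fst (𝒰.f m) (𝒰.f m') ≫ (g m).left = pullback.snd _ _ ≫ (g m').left := by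
    intro m m'
    let W : Over (Spec (CommRingCat.of k)) := Over.mk (pullback.fst (𝒰.f m) (𝒰.f m') ≫ 𝒰.f m ≫ S.hom)
    let p : W ⟶ U m := Over.homMk (pullback.fst (𝒰.f m) (𝒰.f m')) rfl
    let q : W ⟶ U m' := Over.homMk (pullback.snd (𝒰.f m) (𝒰.f m')) (by
      show pullback.snd _ _ ≫ 𝒰.f m' ≫ S.hom = pullback.fst _ _ ≫ 𝒰.f m ≫ S.hom
      rw [pullback.condition_assoc])
    have hpq : p ≫ i m = q ≫ i m' := Over.OverMorphism.ext pullback.condition
    have h1 : p ≫ g m = q ≫ g m' := huniq W _ _ (by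
      rw [whiskerLeft_comp_assoc, hg, whiskerLeft_comp_assoc, hg, ← whiskerLeft_comp_assoc, hpq,
        whiskerLeft_comp_assoc])
    exact congrArg Over.Hom.left h1
  let G : S ⟶ M := Over.homMk (𝒰.glueMorphisms (fun m => (g m).left) hcompat) (by
    refine 𝒰.hom_ext _ _ fun m => ?_
    rw [Scheme.Cover.ι_glueMorphisms_assoc]
    exact Over.w (g m))
  have hG : ∀ m, i m ≫ G = g m := fun m =>
    Over.OverMorphism.ext (Scheme.Cover.ι_glueMorphisms 𝒰 (fun m => (g m).left) hcompat m)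
  have hGf : (X ◁ G) ≫ (c ▷ M) ≫ ev = f := by
    refine Over.OverMorphism.ext ((Scheme.Pullback.openCoverOfRight 𝒰 X.hom S.hom).hom_ext _ _ fun m => ?_)
    have h1 : (X ◁ i m) ≫ (X ◁ G) ≫ (c ▷ M) ≫ ev = (X ◁ i m) ≫ f := by
      rw [← whiskerLeft_comp_assoc, hG, hg]
    exact congrArg Over.Hom.left h1
  exact ⟨G, hGf, fun G' hG' => huniq S _ _ (hG'.trans hGf.symm)⟩

end Groth.Agent.PB4
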