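import Groth.Agent.Sga84.TorsorExact
import Groth.Agent.AlgGrp79.Act
import Mathlib.AlgebraicGeometry.Sites.Proetale
import Groth.Prelude.Def_ChGrp

/-! Reductions of the structure group and sections of the quotient. -/

universe u

open CategoryTheory MonoidalCategory CartesianMonoidalCategory MonObj AlgebraicGeometry

set_option autoImplicit false

namespace Groth.Agent.PB4

open Groth.Agent.Sga84

variable {S : Scheme.{u}} {G F Q : Over S} [GrpObj G] {b : AlgGrp.Action G F} {π : F ⟶ Q}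
  (hsq : IsPullback b.act (snd G F) π π)

include hsq

theorem actPt_comp {T : Over S} (g : T ⟶ G) (x : T ⟶ F) : actPt b g x ≫ π = x ≫ π := by
  rw [actPt, Category.assoc, hsq.w, lift_snd_assoc]

theorem existsUnique_pt {T : Over S} (x y : T ⟶ F) (h : y ≫ π = x ≫ π) :
    ∃! g : T ⟶ G, actPt b g x = y := by
  let l := hsq.lift y x h
  have h₁ : l ≫ b.act = y := hsq.lift_fst _ _ _
  have h₂ : l ≫ snd G F = x := hsq.lift_snd _ _ _
  refine ⟨l ≫ fst G F, ?_, fun g hg => ?_⟩
  · show actPt b (l ≫ fst G F) x = y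
    rw [actPt, ← h₂, ← comp_lift, lift_fst_snd, Category.comp_id, h₁]
  · have e : lift g x = l := hsq.hom_ext (hg.trans h₁.symm) (by rw [lift_snd, h₂])
    rw [← e, lift_fst]

variable {E : Over S} {aE : AlgGrp.Action G E} (φ : E ⟶ F)

omit hsq in
theorem actPt_map (hφ : AlgGrp.Action.IsEquivariant aE b φ) {T : Over S} (g : T ⟶ G) (x : T ⟶ E) :
    actPt aE g x ≫ φ = actPt b g (x ≫ φ) := by
  rw [actPt, Category.assoc, hφ, lift_whiskerLeft_assoc]
  rfl

omit hsq in
theorem fpqc_of_etale {X : Over S} (h : NonAbH1.IsLocallyTrivialFor Scheme.etalePrecoverage X) :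
    NonAbH1.IsLocallyTrivialFor Scheme.fpqcPrecoverage X := by
  obtain ⟨R, hR, hsec⟩ := h
  exact ⟨R, (Scheme.etalePrecoverage_le_proetalePrecoverage.trans Scheme.proetalePrecoverage_le_fpqcPrecoverage)
    _ hR, hsec⟩

theorem section_of_reduction (hE : NonAbH1.IsTorsorFor Scheme.etalePrecoverage aE)
    (hφ : AlgGrp.Action.IsEquivariant aE b φ) :
    (∃! σ : 𝟙_ (Over S) ⟶ Q, toUnit E ≫ σ = φ ≫ π) ∧
      ∀ σ : 𝟙_ (Over S) ⟶ Q, toUnit E ≫ σ = φ ≫ π → IsPullback φ (toUnit E) π σ := by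
  obtain ⟨hps, hloc'⟩ := hE
  have hloc := fpqc_of_etale hloc'
  constructor
  · obtain ⟨σ, hσ⟩ := exists_glue hloc (T := 𝟙_ (Over S)) (Y := Q)
      (fun Z _ y => ∃ p : Z ⟶ E, y = p ≫ φ ≫ π)
      (fun Z Z' k g y ⟨p, hp⟩ => ⟨k ≫ p, by rw [hp, Category.assoc]⟩)
      (fun Z g p => ⟨p ≫ φ ≫ π, ⟨p, rfl⟩, fun y ⟨p₁, hy⟩ => by
        obtain ⟨m, hm, -⟩ := existsUnique_actPt aE hps p p₁
        rw [hy, ← hm, ← Category.assoc, actPt_map φ hφ, actPt_comp hsq, Category.assoc]⟩)
    have h1 : toUnit E ≫ σ = φ ≫ π := by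
      obtain ⟨p, hp⟩ := hσ E (toUnit E) (𝟙 E)
      obtain ⟨m, hm, -⟩ := existsUnique_actPt aE hps (𝟙 E) p
      rw [hp, ← hm, ← Category.assoc, actPt_map φ hφ, actPt_comp hsq, Category.id_comp]
    refine ⟨σ, h1, fun σ' hσ' => hom_ext_of_point hloc fun Z g p => ?_⟩
    rw [toUnit_unique g (p ≫ toUnit E), Category.assoc, Category.assoc, hσ', h1]
  · intro σ hσ
    have hinj : ∀ {Z : Over S} (e e' : Z ⟶ E), e ≫ φ = e' ≫ φ → e' = e := fun {Z} e e' h => by
      obtain ⟨m, hm, -⟩ := existsUnique_actPt aE hps e e'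
      obtain ⟨m₀, -, hm₀⟩ := existsUnique_pt hsq (e ≫ φ) (e ≫ φ) rfl
      have hm' : m = 1 := (hm₀ m (show actPt b m (e ≫ φ) = e ≫ φ by rw [← actPt_map φ hφ, hm, h])).trans (hm₀ 1 (by
        exact AlgGrp79.one_act' b _)).symm
      rw [← hm, hm']
      exact AlgGrp79.one_act' aE _
    have hex : ∀ {Z : Over S} (f : Z ⟶ F), f ≫ π = toUnit Z ≫ σ → ∃ e : Z ⟶ E, e ≫ φ = f := by
      intro Z f hf
      obtain ⟨e, he⟩ := exists_glue hloc (T := Z) (Y := E) (fun W g y => y ≫ φ = g ≫ f)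
        (fun W W' k g y h => by rw [Category.assoc, h, Category.assoc])
        (fun W g p => by
          obtain ⟨m, hm, -⟩ := existsUnique_pt hsq (p ≫ φ) (g ≫ f) (by
            rw [Category.assoc, hf, Category.assoc, ← hσ, ← Category.assoc, ← Category.assoc]
            exact congrArg (· ≫ σ) (toUnit_unique _ _))
          exact ⟨actPt aE m p, show actPt aE m p ≫ φ = g ≫ f by rw [actPt_map φ hφ, hm],
            fun y hy => hinj _ _ (by rw [actPt_map φ hφ, hm, hy])⟩)
      refine ⟨e, hom_ext_of_point hloc fun W g p => ?_⟩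
      rw [← Category.assoc]
      exact he W g p
    have hex' : ∀ s : Limits.PullbackCone π σ, ∃ e, e ≫ φ = s.fst := fun s =>
      hex s.fst (by rw [s.condition, toUnit_unique s.snd (toUnit _)])
    refine IsPullback.of_isLimit' ⟨hσ.symm⟩ (Limits.PullbackCone.IsLimit.mk _ (fun s => (hex' s).choose)
      (fun s => (hex' s).choose_spec) (fun s => toUnit_unique _ _) (fun s m h _ => ?_))
    exact hinj _ _ ((hex' s).choose_spec.trans h.symm)

theorem reduction_of_section
    (hloc : NonAbH1.IsLocallyTrivialFor Scheme.etalePrecoverage (Over.mk π.left : Over Q.left))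
    (σ : 𝟙_ (Over S) ⟶ Q) :
    ∃ (E : Over S) (aE : AlgGrp.Action G E) (φ : E ⟶ F),
      NonAbH1.IsTorsorFor Scheme.etalePrecoverage aE ∧
      AlgGrp.Action.IsEquivariant aE b φ ∧ IsPullback φ (toUnit E) π σ := by
  let E := Limits.pullback π σ
  let φ : E ⟶ F := Limits.pullback.fst π σ
  have sq : IsPullback φ (toUnit E) π σ := by
    have h := IsPullback.of_hasPullback π σ
    rwa [toUnit_unique (Limits.pullback.snd π σ) (toUnit E)] at h
  let act : G ⊗ E ⟶ E := sq.lift ((G ◁ φ) ≫ b.act) (toUnit _) (by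
    rw [Category.assoc, hsq.w, whiskerLeft_snd_assoc, sq.w, ← Category.assoc]
    exact congrArg (· ≫ σ) (toUnit_unique _ _))
  have hact : act ≫ φ = (G ◁ φ) ≫ b.act := sq.lift_fst _ _ _
  have hpt : ∀ {T : Over S} (g : T ⟶ G) (x : T ⟶ E), lift g x ≫ act ≫ φ = lift g (x ≫ φ) ≫ b.act :=
    fun g x => by rw [hact, lift_whiskerLeft_assoc]
  let aE : AlgGrp.Action G E :=
    { act := act
      one_act := sq.hom_ext (by
        rw [Category.assoc, hact, ← Category.assoc, ← whisker_exchange, Category.assoc, b.one_act]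
        simp) (toUnit_unique _ _)
      mul_act := sq.hom_ext (by
        simp only [Category.assoc]
        rw [hact, ← Category.assoc, ← whisker_exchange, Category.assoc, b.mul_act,
          ← MonoidalCategory.whiskerLeft_comp_assoc, hact, MonoidalCategory.whiskerLeft_comp_assoc,
          associator_naturality_right_assoc]) (toUnit_unique _ _) }
  refine ⟨E, aE, φ, ⟨isPseudoTorsorSch_of_existsUnique aE fun T x y => ?_, ?_⟩, hact, sq⟩
  · have hq : (y ≫ φ) ≫ π = (x ≫ φ) ≫ π := by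
      rw [Category.assoc, Category.assoc, sq.w, ← Category.assoc, ← Category.assoc]
      exact congrArg (· ≫ σ) (toUnit_unique _ _)
    obtain ⟨g, hg, hu⟩ := existsUnique_pt hsq (x ≫ φ) (y ≫ φ) hq
    refine ⟨g, sq.hom_ext ?_ (toUnit_unique _ _), fun g' hg' => hu g' ?_⟩
    · show (lift g x ≫ act) ≫ φ = y ≫ φ
      rw [Category.assoc]; exact (hpt g x).trans hg
    · rw [← hg']
      show lift g' (x ≫ φ) ≫ b.act = (lift g' x ≫ act) ≫ φ
      rw [Category.assoc]; exact (hpt g' x).symm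
  · obtain ⟨R, hR, hsec⟩ := hloc
    obtain ⟨I, W, f, rfl⟩ := R.exists_eq_ofArrows
    choose s hs using fun i => hsec (f i) ⟨i⟩
    let σ' : S ⟶ Q.left := σ.left
    obtain ⟨hsurj, het⟩ := (Scheme.ofArrows_mem_precoverage_iff @Etale).1 hR
    refine ⟨Presieve.ofArrows _ (fun i => Limits.pullback.fst σ' (f i)),
      (Scheme.ofArrows_mem_precoverage_iff @Etale).2 ⟨fun x => ?_, fun i => ?_⟩, ?_⟩
    · obtain ⟨i, w, hw⟩ := hsurj (σ' x)
      obtain ⟨z, hz, -⟩ := Scheme.Pullback.exists_preimage_pullback (f := σ') (g := f i) x w hw.symm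
      exact ⟨i, z, hz⟩
    · have : Etale (f i) := het i
      infer_instance
    rintro W' _ ⟨i⟩
    let Z : Over S := Over.mk (Limits.pullback.fst σ' (f i))
    have e : (Limits.pullback.snd σ' (f i) ≫ s i) ≫ π.left = Limits.pullback.fst σ' (f i) ≫ σ' := by
      rw [Category.assoc, Limits.pullback.condition]
      exact congrArg _ (hs i)
    let p : Z ⟶ F := Over.homMk (Limits.pullback.snd σ' (f i) ≫ s i) (by
      rw [← Over.w π, ← Category.assoc, e, Category.assoc]
      exact (congrArg _ (Over.w σ)).trans (Category.comp_id _))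
    let l : Z ⟶ E := sq.lift p (toUnit Z) (Over.OverMorphism.ext e)
    exact ⟨l.left, Over.w l⟩

end Groth.Agent.PB4
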