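import Mathlib.RingTheory.Unramified.Finite
import Mathlib.RingTheory.RingHom.Unramified

/-! Separability elements and their naturality. -/

set_option autoImplicit false
universe u

open scoped TensorProduct

namespace Groth.Agent.PB4

section

variable {A B : Type u} [CommRing A] [CommRing B] [Algebra A B]

/-- A separability element. -/
def IsSepElem (e : B ⊗[A] B) : Prop :=
  (∀ b, ((1 : B) ⊗ₜ[A] b - b ⊗ₜ[A] (1 : B)) * e = 0) ∧ Algebra.TensorProduct.lmul' A e = 1

theorem mul_eq_lmul_tmul {e : B ⊗[A] B} (h : IsSepElem e) (z : B ⊗[A] B) :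
    z * e = (Algebra.TensorProduct.lmul' A z ⊗ₜ[A] (1 : B)) * e := by
  induction z with
  | zero => simp
  | tmul x y =>
    rw [Algebra.TensorProduct.lmul'_apply_tmul]
    have h1 : x ⊗ₜ[A] y = (x ⊗ₜ[A] (1 : B)) * ((1 : B) ⊗ₜ[A] y) := by simp
    have h2 : (x * y) ⊗ₜ[A] (1 : B) = (x ⊗ₜ[A] (1 : B)) * (y ⊗ₜ[A] (1 : B)) := by simp
    have h3 := h.1 y
    rw [sub_mul, sub_eq_zero] at h3
    rw [h1, h2, mul_assoc, h3, mul_assoc]
  | add x y hx hy => rw [add_mul, hx, hy, map_add, TensorProduct.add_tmul, add_mul]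

theorem sepElem_unique {e e' : B ⊗[A] B} (h : IsSepElem e) (h' : IsSepElem e') : e = e' := by
  have k : ∀ {e e' : B ⊗[A] B}, IsSepElem e → IsSepElem e' → e * e' = e' := fun {e e'} h h' => by
    rw [mul_eq_lmul_tmul h', h.2, ← Algebra.TensorProduct.one_def, one_mul]
  rw [← k h' h, mul_comm, k h h']

end

section Map

variable {A B A₀ B₀ : Type u} [CommRing A] [CommRing B] [Algebra A B] [CommRing A₀] [CommRing B₀]
  [Algebra A₀ B₀] (α : A →+* A₀) (β : B →+* B₀) (hαβ : ∀ a, β (algebraMap A B a) = algebraMap A₀ B₀ (α a))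

/-- The map of tensor squares. -/
noncomputable def sqMap : B ⊗[A] B →+ B₀ ⊗[A₀] B₀ :=
  TensorProduct.liftAddHom
    (AddMonoidHom.mk' (fun x => AddMonoidHom.mk' (fun y => β x ⊗ₜ[A₀] β y)
      fun y y' => by rw [map_add, TensorProduct.tmul_add])
      fun x x' => by ext y; simp [TensorProduct.add_tmul])
    fun a x y => by
      simp only [AddMonoidHom.mk'_apply, Algebra.smul_def, map_mul, hαβ]
      rw [← Algebra.smul_def, ← Algebra.smul_def, TensorProduct.smul_tmul]

@[simp] theorem sqMap_tmul (x y : B) : sqMap α β hαβ (x ⊗ₜ[A] y) = β x ⊗ₜ[A₀] β y := rfl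

theorem sqMap_mul (z w : B ⊗[A] B) : sqMap α β hαβ (z * w) = sqMap α β hαβ z * sqMap α β hαβ w := by
  induction z with
  | zero => simp
  | tmul x y =>
    induction w with
    | zero => simp
    | tmul x' y' => simp
    | add p q hp hq => rw [mul_add, map_add, hp, hq, map_add, mul_add]
  | add p q hp hq => rw [add_mul, map_add, hp, hq, map_add, add_mul]

theorem lmul_sqMap (z : B ⊗[A] B) :
    Algebra.TensorProduct.lmul' A₀ (sqMap α β hαβ z) = β (Algebra.TensorProduct.lmul' A z) := by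
  induction z with
  | zero => simp
  | tmul x y => simp
  | add p q hp hq => simp [hp, hq]

theorem isSepElem_sqMap {e : B ⊗[A] B} (h : IsSepElem e)
    (hgen : ∀ b₀ : B₀, ∃ (b : B) (a₀ : A₀), IsUnit a₀ ∧ β b = b₀ * algebraMap A₀ B₀ a₀) :
    IsSepElem (sqMap α β hαβ e) := by
  refine ⟨fun b₀ => ?_, by rw [lmul_sqMap, h.2, map_one]⟩
  obtain ⟨b, a₀, ha, hb⟩ := hgen b₀
  have h1 := congrArg (sqMap α β hαβ) (h.1 b)
  rw [sqMap_mul, map_sub, sqMap_tmul, sqMap_tmul, map_one, map_zero, hb,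
    show b₀ * algebraMap A₀ B₀ a₀ = a₀ • b₀ by rw [Algebra.smul_def, mul_comm],
    TensorProduct.tmul_smul, ← TensorProduct.smul_tmul', ← smul_sub, smul_mul_assoc] at h1
  exact ha.smul_eq_zero.1 h1

end Map

end Groth.Agent.PB4
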