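import Groth.Agent.PB4.SepElem
import Groth.Agent.QC70.Deligne
import Groth.Agent.Amp73.CounitEpi
import Mathlib.AlgebraicGeometry.Morphisms.Etale

/-! The counit of a finite etale morphism splits on quasi-coherent modules. -/

set_option autoImplicit false
set_option backward.isDefEq.respectTransparency false
set_option backward.isDefEq.respectTransparency.types false

universe u

open CategoryTheory Limits AlgebraicGeometry Opposite
open scoped TensorProduct

noncomputable section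

namespace Groth.Agent.PB4

variable {X X' : Scheme.{u}} (p : X' ⟶ X) (V : X'.Modules)

/-- Pullback of the pushforward. -/
abbrev PP : X'.Modules :=
  (Scheme.Modules.pullback p).obj ((Scheme.Modules.pushforward p).obj V)

/-- The unit on sections. -/
def pS (U : X.Opens) (m : Γ(V, p ⁻¹ᵁ U)) : Γ(PP p V, p ⁻¹ᵁ U) :=
  Amp73.pullS p ((Scheme.Modules.pushforward p).obj V) U m

theorem pS_add (U : X.Opens) (m m' : Γ(V, p ⁻¹ᵁ U)) : pS p V U (m + m') = pS p V U m + pS p V U m' :=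
  map_add (((Scheme.Modules.pullbackPushforwardAdjunction p).unit.app _).app U).hom _ _

theorem pS_smul (U : X.Opens) (a : Γ(X, U)) (m : Γ(V, p ⁻¹ᵁ U)) :
    pS p V U (p.app U a • m) = p.app U a • pS p V U m :=
  Amp73.pullS_smul p ((Scheme.Modules.pushforward p).obj V) U a m

theorem res_pS {U U₀ : X.Opens} (h : U₀ ≤ U) (m : Γ(V, p ⁻¹ᵁ U)) :
    QC70.res (PP p V) (p.preimage_mono h) (pS p V U m) = pS p V U₀ (QC70.res V (p.preimage_mono h) m) :=
  Amp73.res_pullS p ((Scheme.Modules.pushforward p).obj V) h m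

theorem counit_pS (U : X.Opens) (m : Γ(V, p ⁻¹ᵁ U)) :
    ((Scheme.Modules.pullbackPushforwardAdjunction p).counit.app V).app (p ⁻¹ᵁ U) (pS p V U m) = m :=
  Amp73.counit_app_pullS p V U m

/-- The algebra of a preimage. -/
abbrev preAlg (U : X.Opens) : Algebra Γ(X, U) Γ(X', p ⁻¹ᵁ U) := (p.app U).hom.toAlgebra

section Phi

variable (U : X.Opens)

/-- The tensor square of the algebra of a preimage. -/
abbrev Sq : Type u :=
  letI := preAlg p U
  Γ(X', p ⁻¹ᵁ U) ⊗[Γ(X, U)] Γ(X', p ⁻¹ᵁ U)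

/-- Evaluation of the tensor square on a section. -/
def Phi (m : Γ(V, p ⁻¹ᵁ U)) : Sq p U →+ Γ(PP p V, p ⁻¹ᵁ U) :=
  letI := preAlg p U
  TensorProduct.liftAddHom
    (AddMonoidHom.mk' (fun x => AddMonoidHom.mk' (fun y => x • pS p V U (y • m))
      fun y y' => by rw [add_smul, pS_add, smul_add])
      fun x x' => by ext y; simp [add_smul])
    fun a x y => by
      simp only [AddMonoidHom.mk'_apply]
      change (p.app U a * x) • pS p V U (y • m) = x • pS p V U ((p.app U a * y) • m)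
      rw [mul_smul, mul_smul, pS_smul, smul_comm]

theorem Phi_tmul (m : Γ(V, p ⁻¹ᵁ U)) (x y : Γ(X', p ⁻¹ᵁ U)) :
    letI := preAlg p U
    Phi p V U m (x ⊗ₜ[Γ(X, U)] y) = x • pS p V U (y • m) := rfl

theorem Phi_add (m m' : Γ(V, p ⁻¹ᵁ U)) (z : Sq p U) :
    Phi p V U (m + m') z = Phi p V U m z + Phi p V U m' z := by
  let := preAlg p U
  induction z using TensorProduct.induction_on with
  | zero => simp
  | tmul x y => rw [Phi_tmul, Phi_tmul, Phi_tmul, smul_add, pS_add, smul_add]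
  | add z w hz hw => rw [map_add, map_add, map_add, hz, hw]; abel

theorem Phi_right (m : Γ(V, p ⁻¹ᵁ U)) (b : Γ(X', p ⁻¹ᵁ U)) (z : Sq p U) :
    letI := preAlg p U
    Phi p V U (b • m) z = Phi p V U m (((1 : Γ(X', p ⁻¹ᵁ U)) ⊗ₜ[Γ(X, U)] b) * z) := by
  let := preAlg p U
  induction z using TensorProduct.induction_on with
  | zero => simp
  | tmul x y =>
    rw [Algebra.TensorProduct.tmul_mul_tmul, Phi_tmul, Phi_tmul, one_mul, mul_comm b y, mul_smul]
  | add z w hz hw => rw [map_add, mul_add, map_add, hz, hw]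

theorem Phi_left (m : Γ(V, p ⁻¹ᵁ U)) (b : Γ(X', p ⁻¹ᵁ U)) (z : Sq p U) :
    letI := preAlg p U
    Phi p V U m ((b ⊗ₜ[Γ(X, U)] (1 : Γ(X', p ⁻¹ᵁ U))) * z) = b • Phi p V U m z := by
  let := preAlg p U
  induction z using TensorProduct.induction_on with
  | zero => simp
  | tmul x y => rw [Algebra.TensorProduct.tmul_mul_tmul, Phi_tmul, Phi_tmul, one_mul, mul_smul]
  | add z w hz hw => rw [mul_add, map_add, map_add, hz, hw, smul_add]

theorem counit_Phi (m : Γ(V, p ⁻¹ᵁ U)) (z : Sq p U) :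
    letI := preAlg p U
    ((Scheme.Modules.pullbackPushforwardAdjunction p).counit.app V).app (p ⁻¹ᵁ U) (Phi p V U m z) =
      Algebra.TensorProduct.lmul' Γ(X, U) z • m := by
  let := preAlg p U
  induction z using TensorProduct.induction_on with
  | zero =>
    rw [map_zero, map_zero]
    simp
  | tmul x y =>
    rw [Phi_tmul, Algebra.TensorProduct.lmul'_apply_tmul, mul_smul, Scheme.Modules.Hom.app_smul, counit_pS]
  | add z w hz hw => rw [map_add, map_add, map_add, hz, hw, add_smul]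

end Phi

theorem res_Phi {U U₀ : X.Opens} (h : U₀ ≤ U) (m : Γ(V, p ⁻¹ᵁ U)) (z : Sq p U)
    (hαβ : letI := preAlg p U; letI := preAlg p U₀
      ∀ a, QC70.resO X' (p.preimage_mono h) (algebraMap Γ(X, U) Γ(X', p ⁻¹ᵁ U) a) =
        algebraMap Γ(X, U₀) Γ(X', p ⁻¹ᵁ U₀) (QC70.resO X h a)) :
    letI := preAlg p U; letI := preAlg p U₀
    QC70.res (PP p V) (p.preimage_mono h) (Phi p V U m z) =
      Phi p V U₀ (QC70.res V (p.preimage_mono h) m)
        (sqMap (X.presheaf.map (homOfLE h).op).hom (X'.presheaf.map (homOfLE (p.preimage_mono h)).op).hom hαβ z) := by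
  let := preAlg p U
  let := preAlg p U₀
  induction z using TensorProduct.induction_on with
  | zero => simp [QC70.res_zero]
  | tmul x y => rw [Phi_tmul, sqMap_tmul, Phi_tmul, QC70.res_smul, res_pS p V h, QC70.res_smul]
  | add z w hz hw => rw [map_add, QC70.res_add, hz, hw, map_add, map_add]

theorem isSplitEpi_counit [IsFinite p] [Etale p] [V.IsQuasicoherent] :
    IsSplitEpi ((Scheme.Modules.pullbackPushforwardAdjunction p).counit.app V) := by
  classical
  have hex : ∀ U : X.affineOpens, ∃ e : Sq p U.1, letI := preAlg p U.1; IsSepElem e := by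
    intro U
    have h := HasRingHomProperty.appLE @Etale p ‹_› U ⟨p ⁻¹ᵁ U.1, U.2.preimage p⟩ le_rfl
    rw [← Scheme.Hom.app_eq_appLE] at h
    let := preAlg p U.1
    have : Algebra.Etale Γ(X, U.1) Γ(X', p ⁻¹ᵁ U.1) := RingHom.etale_algebraMap.1 h
    exact Algebra.FormallyUnramified.iff_exists_tensorProduct.1 inferInstance
  choose e he using hex
  have key : ∀ (U U₀ : X.affineOpens) (a : Γ(X, U.1)) (ha : U₀.1 = X.basicOpen a)
      (m : Γ(V, p ⁻¹ᵁ U.1)) (h : U₀.1 ≤ U.1),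
      QC70.res (PP p V) (p.preimage_mono h) (Phi p V U.1 m (e U)) =
        Phi p V U₀.1 (QC70.res V (p.preimage_mono h) m) (e U₀) := by
    rintro U ⟨U₀, hU₀⟩ a ha m h
    dsimp only at ha h ⊢
    let := preAlg p U.1
    let := preAlg p U₀
    have hαβ : ∀ r, QC70.resO X' (p.preimage_mono h) (algebraMap Γ(X, U.1) Γ(X', p ⁻¹ᵁ U.1) r) =
        algebraMap Γ(X, U₀) Γ(X', p ⁻¹ᵁ U₀) (QC70.resO X h r) := fun r =>
      (congrArg (fun φ => φ r) (congrArg (fun φ : _ ⟶ _ => (φ : _ → _)) (p.naturality (homOfLE h).op))).symm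
    rw [res_Phi p V h m (e U) hαβ]
    congr 1
    refine sepElem_unique (isSepElem_sqMap _ _ _ (he U) fun b₀ => ?_) (he ⟨U₀, hU₀⟩)
    subst ha
    have hloc : letI := (X'.presheaf.map (homOfLE (p.preimage_mono h)).op).hom.toAlgebra
        IsLocalization.Away (p.app U.1 a) Γ(X', p ⁻¹ᵁ X.basicOpen a) := by
      exact (U.2.preimage p).isLocalization_of_eq_basicOpen (p.app U.1 a) (homOfLE (p.preimage_mono h))
        (Scheme.preimage_basicOpen p a)
    letI := (X'.presheaf.map (homOfLE (p.preimage_mono h)).op).hom.toAlgebra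
    obtain ⟨n, b, hb⟩ := IsLocalization.Away.surj (p.app U.1 a) b₀
    refine ⟨b, QC70.resO X h a ^ n, (RingedSpace.isUnit_res_basicOpen _ a).pow n, ?_⟩
    change _ = b₀ * algebraMap Γ(X, X.basicOpen a) Γ(X', p ⁻¹ᵁ X.basicOpen a) (QC70.resO X h a ^ n)
    rw [map_pow, ← hαβ a]
    exact hb.symm
  let l : ∀ U : X.affineOpens, Γ(V, p ⁻¹ᵁ U.1) →ₗ[Γ(X', p ⁻¹ᵁ U.1)] Γ(PP p V, p ⁻¹ᵁ U.1) := fun U =>
    { toFun := fun m => Phi p V U.1 m (e U)
      map_add' := fun m m' => Phi_add p V U.1 m m' (e U)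
      map_smul' := fun b m => by
        let := preAlg p U.1
        have h3 := (he U).1 b
        rw [sub_mul, sub_eq_zero] at h3
        rw [RingHom.id_apply, Phi_right, h3, Phi_left] }
  let W : X.affineOpens → X'.Opens := fun U => p ⁻¹ᵁ U.1
  have hW : ∀ U, IsAffineOpen (W U) := fun U => U.2.preimage p
  let φ : ∀ U, QC70.HomOn V (PP p V) (W U) := fun U => QC70.HomOn.ofLinear (hW U) (l U)
  have hφ : QC70.HomOn.Compatible φ := by
    intro U U' O hi hj s
    refine QC70.section_ext _ _ _ fun x hx => ?_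
    obtain ⟨a, a', haa', hxa⟩ := exists_basicOpen_le_affine_inter U.2 U'.2 (p x) ⟨hi hx, hj hx⟩
    let U₀ : X.affineOpens := ⟨X.basicOpen a, U.2.basicOpen a⟩
    have h₁ : U₀.1 ≤ U.1 := X.basicOpen_le a
    have h₂ : U₀.1 ≤ U'.1 := haa'.trans_le (X.basicOpen_le a')
    refine ⟨O ⊓ W U₀, inf_le_left, ⟨hx, hxa⟩, ?_⟩
    rw [← (φ U).app_res hi inf_le_left, ← (φ U').app_res hj inf_le_left]
    have main : ∀ (U₁ : X.affineOpens) (h : U₀.1 ≤ U₁.1) (c : Γ(X, U₁.1)) (hc : U₀.1 = X.basicOpen c)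
        (h' : O ⊓ W U₀ ≤ W U₁) (t : Γ(V, O ⊓ W U₀)),
        (φ U₁).app _ h' t = (φ U₀).app _ inf_le_right t := by
      intro U₁ h c hc h' t
      have hle : W U₀ ≤ W U₁ := p.preimage_mono h
      refine QC70.HomOn.ext_of_affine_le (hW U₁) (QC70.isLocAt_of_isQuasicoherent V (hW U₁)) hle
        ((φ U₁).mono hle) (φ U₀) (fun t => ?_) inf_le_right t
      change (φ U₁).app (W U₀) hle (QC70.res V hle t) = (φ U₀).app (W U₀) le_rfl (QC70.res V hle t)
      rw [(φ U₁).app_res le_rfl hle, QC70.HomOn.ofLinear_app_self, QC70.HomOn.ofLinear_app_self]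
      exact key U₁ U₀ c hc t h
    rw [main U h₁ a rfl, main U' h₂ a' haa']
  have hcov : (⊤ : X'.Opens) ≤ ⨆ U, W U := fun x _ => by
    obtain ⟨U, hU, hxU, -⟩ := exists_isAffineOpen_mem_and_subset (X := X) (x := p x) (U := ⊤) trivial
    exact TopologicalSpace.Opens.mem_iSup.2 ⟨⟨U, hU⟩, hxU⟩
  refine ⟨⟨⟨(QC70.HomOn.glue hφ hcov).toHom, ?_⟩⟩⟩
  refine Scheme.Modules.hom_ext _ _ fun O => ConcreteCategory.hom_ext _ _ fun s => ?_
  refine QC70.section_ext _ _ _ fun x hx => ?_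
  obtain ⟨U, hU, hxU, -⟩ := exists_isAffineOpen_mem_and_subset (X := X) (x := p x) (U := ⊤) trivial
  let U₁ : X.affineOpens := ⟨U, hU⟩
  refine ⟨O ⊓ W U₁, inf_le_left, ⟨hx, hxU⟩, ?_⟩
  let ε := (Scheme.Modules.pullbackPushforwardAdjunction p).counit.app V
  let σ := (QC70.HomOn.glue hφ hcov).toHom
  have := QC70.HomOn.ext_of_affine (hW U₁) (QC70.isLocAt_of_isQuasicoherent V (hW U₁))
    (QC70.HomOn.ofHom (σ ≫ ε) (W U₁)) (QC70.HomOn.ofHom (𝟙 V) (W U₁)) (LinearMap.ext fun m => ?_)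
    (inf_le_right : O ⊓ W U₁ ≤ W U₁) (QC70.res V inf_le_left s)
  · rw [QC70.HomOn.ofHom_app, QC70.HomOn.ofHom_app] at this
    rw [← QC70.app_res, ← QC70.app_res]
    exact this
  · rw [QC70.HomOn.ofHom_app, QC70.HomOn.ofHom_app]
    change ε.app (W U₁) (σ.app (W U₁) m) = m
    rw [QC70.HomOn.toHom_app, QC70.HomOn.glue_app hφ hcov le_top U₁ le_rfl, QC70.HomOn.ofLinear_app_self]
    change ε.app (W U₁) (Phi p V U (show Γ(V, p ⁻¹ᵁ U) from m) (e U₁)) = m
    let := preAlg p U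
    rw [counit_Phi, (he U₁).2, one_smul]

end Groth.Agent.PB4
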